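import Groth.Agent.GLinExtLib.Coord
import Groth.Agent.HopfFFLib.Nilradical
import Mathlib

/-!
# Functions on the base change to a field extension
-/

set_option autoImplicit false
set_option backward.isDefEq.respectTransparency false
set_option synthInstance.maxHeartbeats 400000
set_option maxHeartbeats 1000000
set_option linter.style.haveILetI false
set_option linter.unusedSectionVars false

universe u

open CategoryTheory CategoryTheory.Limits AlgebraicGeometry TopologicalSpace Opposite TensorProduct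

noncomputable section

namespace GLinBCLib

/-- The setting: `Y` is `X ⊗_k K`. -/
structure BC (k K : Type u) [Field k] [Field K] [Algebra k K] (X Y : Scheme.{u}) where
  g : Y ⟶ X
  iX : X ⟶ Spec (CommRingCat.of k)
  iY : Y ⟶ Spec (CommRingCat.of K)
  sq : IsPullback g iY iX (Spec.map (CommRingCat.ofHom (algebraMap k K)))

variable {k K : Type u} [Field k] [Field K] [Algebra k K] {X Y : Scheme.{u}} (β : BC k K X Y)

/-- Constants on `X`. -/
def BC.cX (U : X.Opens) : k →+* Γ(X, U) :=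
  ((Scheme.ΓSpecIso (CommRingCat.of k)).inv ≫ β.iX.appLE ⊤ U le_top).hom

/-- Constants on `Y`. -/
def BC.cY (U : Y.Opens) : K →+* Γ(Y, U) :=
  ((Scheme.ΓSpecIso (CommRingCat.of K)).inv ≫ β.iY.appLE ⊤ U le_top).hom

theorem BC.rs_cY {U V : Y.Opens} (h : V ≤ U) (e : K) : GLinExtLib.rs h (β.cY U e) = β.cY V e :=
  GLinExtLib.rs_appLE β.iY h le_top _

theorem BC.isAffineHom_g : IsAffineHom β.g := by
  haveI : IsAffineHom (Spec.map (CommRingCat.ofHom (algebraMap k K))) := inferInstance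
  exact MorphismProperty.of_isPullback β.sq.flip this

theorem BC.flat_g : Flat β.g := by
  haveI : Flat (Spec.map (CommRingCat.ofHom (algebraMap k K))) := by
    rw [Flat.SpecMap_iff]
    exact RingHom.flat_algebraMap_iff.2 inferInstance
  exact MorphismProperty.of_isPullback β.sq.flip this

theorem BC.surjective_g : Surjective β.g := by
  haveI : Surjective (Spec.map (CommRingCat.ofHom (algebraMap k K))) :=
    ⟨fun x => ⟨Classical.arbitrary _, Subsingleton.elim _ _⟩⟩
  exact MorphismProperty.of_isPullback β.sq.flip this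

theorem BC.isPushout {U : X.Opens} (hc : IsCompact (U : Set X)) (hs : IsQuasiSeparated (U : Set X)) :
    IsPushout (CommRingCat.ofHom (β.cX U)) (CommRingCat.ofHom (algebraMap k K))
      (β.g.app U) (CommRingCat.ofHom (β.cY (β.g ⁻¹ᵁ U))) := by
  haveI : Flat (Spec.map (CommRingCat.ofHom (algebraMap k K))) := by
    rw [Flat.SpecMap_iff]
    exact RingHom.flat_algebraMap_iff.2 inferInstance
  have h := (isIso_pushoutSection_iff β.sq (US := ⊤) (UT := ⊤) (UX := U) (UY := β.g ⁻¹ᵁ U) (by simp) (by simp)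
    (by simp)).1 (isIso_pushoutSection_of_isQuasiSeparated_of_flat_right β.sq (by simp) (by simp) (by simp)
      (isAffineOpen_top _) (isAffineOpen_top _) hc hs)
  refine IsPushout.of_iso h (Scheme.ΓSpecIso (CommRingCat.of k)) (Iso.refl _) (Scheme.ΓSpecIso (CommRingCat.of K))
    (Iso.refl _) ?_ ?_ ?_ ?_
  · show _ = (Scheme.ΓSpecIso (CommRingCat.of k)).hom ≫ (Scheme.ΓSpecIso (CommRingCat.of k)).inv ≫ _
    rw [Iso.hom_inv_id_assoc]
    exact Category.comp_id _
  · rw [← Scheme.ΓSpecIso_naturality, Scheme.Hom.appTop, Scheme.Hom.app_eq_appLE]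
    rfl
  · show β.g.appLE U (β.g ⁻¹ᵁ U) _ ≫ 𝟙 _ = _
    rw [Category.comp_id, Scheme.Hom.app_eq_appLE]
    exact (Category.id_comp _).symm
  · show _ = (Scheme.ΓSpecIso (CommRingCat.of K)).hom ≫ (Scheme.ΓSpecIso (CommRingCat.of K)).inv ≫ _
    rw [Iso.hom_inv_id_assoc]
    exact Category.comp_id _

/-- The combination `Σ g^*(b i) · e i`. -/
def BC.comb {ι : Type u} (e : Module.Basis ι k K) (U : X.Opens) (b : ι →₀ Γ(X, U)) : Γ(Y, β.g ⁻¹ᵁ U) :=
  b.sum fun i r => β.g.app U r * β.cY _ (e i)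

variable {ι : Type u} (e : Module.Basis ι k K) {U : X.Opens}

theorem BC.comb_zero : β.comb e U 0 = 0 := Finsupp.sum_zero_index

theorem BC.comb_sub (b b' : ι →₀ Γ(X, U)) : β.comb e U (b - b') = β.comb e U b - β.comb e U b' :=
  Finsupp.sum_sub_index fun i r r' => by rw [map_sub, sub_mul]

/-- Map out of the functions on the base change. -/
theorem BC.exists_desc (hc : IsCompact (U : Set X)) (hs : IsQuasiSeparated (U : Set X)) {C : Type u} [CommRing C]
    (l : Γ(X, U) →+* C) (r : K →+* C) (h : l.comp (β.cX U) = r.comp (algebraMap k K)) :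
    ∃ ψ : Γ(Y, β.g ⁻¹ᵁ U) →+* C, (∀ s, ψ (β.g.app U s) = l s) ∧ ∀ c, ψ (β.cY _ c) = r c := by
  have w : CommRingCat.ofHom (β.cX U) ≫ CommRingCat.ofHom l = CommRingCat.ofHom (algebraMap k K) ≫ CommRingCat.ofHom r :=
    CommRingCat.hom_ext h
  refine ⟨((β.isPushout hc hs).desc _ _ w).hom, fun s => ?_, fun c => ?_⟩
  · exact ConcreteCategory.congr_hom ((β.isPushout hc hs).inl_desc _ _ w) s
  · exact ConcreteCategory.congr_hom ((β.isPushout hc hs).inr_desc _ _ w) c

theorem BC.exists_comb (hc : IsCompact (U : Set X)) (hs : IsQuasiSeparated (U : Set X)) (f : Γ(Y, β.g ⁻¹ᵁ U)) :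
    ∃ b : ι →₀ Γ(X, U), f = β.comb e U b := by
  letI := (β.cX U).toAlgebra
  obtain ⟨ψ, hψ₁, hψ₂⟩ := β.exists_desc hc hs
    (Algebra.TensorProduct.includeLeftRingHom : Γ(X, U) →+* Γ(X, U) ⊗[k] K)
    (Algebra.TensorProduct.includeRight : K →ₐ[k] Γ(X, U) ⊗[k] K).toRingHom (by
      refine RingHom.ext fun c => ?_
      show (β.cX U c) ⊗ₜ[k] (1 : K) = (1 : Γ(X, U)) ⊗ₜ[k] algebraMap k K c
      rw [show β.cX U c = c • (1 : Γ(X, U)) by rw [Algebra.smul_def, mul_one]; rfl, TensorProduct.smul_tmul,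
        Algebra.smul_def, mul_one])
  letI : Algebra k Γ(Y, β.g ⁻¹ᵁ U) := ((β.g.app U).hom.comp (β.cX U)).toAlgebra
  have hw : ∀ c, β.cY (β.g ⁻¹ᵁ U) (algebraMap k K c) = β.g.app U (β.cX U c) := fun c =>
    (ConcreteCategory.congr_hom (β.isPushout hc hs).w c).symm
  let φ₁ : Γ(X, U) →ₐ[k] Γ(Y, β.g ⁻¹ᵁ U) := { (β.g.app U).hom with commutes' := fun _ => rfl }
  let φ₂ : K →ₐ[k] Γ(Y, β.g ⁻¹ᵁ U) := { β.cY _ with commutes' := fun c => hw c }
  let E := Algebra.TensorProduct.lift φ₁ φ₂ fun _ _ => .all _ _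
  have hE : ∀ z, E (ψ z) = z := by
    intro z
    have h3 : CommRingCat.ofHom (E.toRingHom.comp ψ) = 𝟙 Γ(Y, β.g ⁻¹ᵁ U) := (β.isPushout hc hs).hom_ext
      (CommRingCat.hom_ext (RingHom.ext fun s => by
        show E (ψ (β.g.app U s)) = β.g.app U s
        rw [hψ₁]
        show φ₁ s * φ₂ 1 = _
        rw [map_one, mul_one]; rfl))
      (CommRingCat.hom_ext (RingHom.ext fun c => by
        show E (ψ (β.cY _ c)) = β.cY _ c
        rw [hψ₂]
        show φ₁ 1 * φ₂ c = _
        rw [map_one, one_mul]; rfl))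
    exact ConcreteCategory.congr_hom h3 z
  let B := Algebra.TensorProduct.basis Γ(X, U) e
  refine ⟨B.repr (ψ f), ?_⟩
  conv_lhs => rw [← hE f, ← B.linearCombination_repr (ψ f), Finsupp.linearCombination_apply]
  rw [map_finsuppSum]
  refine Finsupp.sum_congr fun i _ => ?_
  rw [Algebra.TensorProduct.basis_apply, TensorProduct.smul_tmul', smul_eq_mul, mul_one]
  rfl

theorem BC.comb_desc (hc : IsCompact (U : Set X)) (hs : IsQuasiSeparated (U : Set X)) {R : Type u} [CommRing R]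
    [Algebra k R] (m : Γ(X, U) →+* R) (hm : m.comp (β.cX U) = algebraMap k R) :
    ∃ ψ : Γ(Y, β.g ⁻¹ᵁ U) →+* R ⊗[k] K, (∀ s, ψ (β.g.app U s) = m s ⊗ₜ[k] (1 : K)) ∧
      ∀ (b : ι →₀ Γ(X, U)) (i : ι), (Algebra.TensorProduct.basis R e).repr (ψ (β.comb e U b)) i = m (b i) := by
  obtain ⟨ψ, hψ₁, hψ₂⟩ := β.exists_desc hc hs
    ((Algebra.TensorProduct.includeLeftRingHom : R →+* R ⊗[k] K).comp m)
    (Algebra.TensorProduct.includeRight : K →ₐ[k] R ⊗[k] K).toRingHom (by
      refine RingHom.ext fun c => ?_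
      show (m (β.cX U c)) ⊗ₜ[k] (1 : K) = (1 : R) ⊗ₜ[k] algebraMap k K c
      rw [show m (β.cX U c) = c • (1 : R) by rw [Algebra.smul_def, mul_one]; exact RingHom.congr_fun hm c,
        TensorProduct.smul_tmul, Algebra.smul_def, mul_one])
  refine ⟨ψ, hψ₁, fun b i => ?_⟩
  let B := Algebra.TensorProduct.basis R e
  have he : ψ (β.comb e U b) = Finsupp.linearCombination R B (b.mapRange m (map_zero m)) := by
    unfold BC.comb
    rw [map_finsuppSum, Finsupp.linearCombination_apply, Finsupp.sum_mapRange_index (fun j => zero_smul R (B j))]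
    refine Finsupp.sum_congr fun j _ => ?_
    rw [map_mul, hψ₁, hψ₂, Algebra.TensorProduct.basis_apply]
    show m (b j) ⊗ₜ[k] (1 : K) * (1 : R) ⊗ₜ[k] e j = _
    rw [Algebra.TensorProduct.tmul_mul_tmul, mul_one, one_mul, TensorProduct.smul_tmul', smul_eq_mul, mul_one]
  rw [he, Module.Basis.repr_linearCombination, Finsupp.mapRange_apply]

theorem BC.comb_injective (hc : IsCompact (U : Set X)) (hs : IsQuasiSeparated (U : Set X)) {b b' : ι →₀ Γ(X, U)}
    (h : β.comb e U b = β.comb e U b') : b = b' := by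
  letI := (β.cX U).toAlgebra
  obtain ⟨ψ, -, hψ⟩ := β.comb_desc e hc hs (RingHom.id Γ(X, U)) rfl
  ext i
  exact (hψ b i).symm.trans ((congrArg (fun z => (Algebra.TensorProduct.basis Γ(X, U) e).repr (ψ z) i) h).trans (hψ b' i))

variable [PerfectField k]

/-- If a power of a combination lies in an extended ideal, the coefficients lie in its radical. -/
theorem BC.coeff_mem_radical (hc : IsCompact (U : Set X)) (hs : IsQuasiSeparated (U : Set X)) (I : Ideal Γ(X, U))
    (b : ι →₀ Γ(X, U)) (M : ℕ) (h : β.comb e U b ^ M ∈ I.map (β.g.app U).hom) (i : ι) : b i ∈ I.radical := by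
  let R := Γ(X, U) ⧸ I.radical
  letI : Algebra k R := ((Ideal.Quotient.mk I.radical).comp (β.cX U)).toAlgebra
  haveI : _root_.IsReduced R := (Ideal.isRadical_iff_quotient_reduced _).1 (Ideal.radical_isRadical I)
  haveI : _root_.IsReduced (R ⊗[k] K) := Groth.Agent.HopfFF.isReduced_tensor_of_perfectField k R K
  obtain ⟨ψ, hψ₁, hψ⟩ := β.comb_desc e hc hs (Ideal.Quotient.mk I.radical) rfl
  have h0 : ψ (β.comb e U b ^ M) = 0 := by
    have : I.map (β.g.app U).hom ≤ RingHom.ker ψ := Ideal.map_le_iff_le_comap.2 fun s hs' => by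
      show ψ (β.g.app U s) = 0
      rw [hψ₁, Ideal.Quotient.eq_zero_iff_mem.2 (Ideal.le_radical hs'), TensorProduct.zero_tmul]
    exact this h
  rw [map_pow] at h0
  have := IsNilpotent.eq_zero ⟨M, h0⟩
  have e0 := hψ b i
  rw [this, map_zero, Finsupp.zero_apply] at e0
  exact Ideal.Quotient.eq_zero_iff_mem.1 e0.symm

/-- A combination with a coefficient which is a unit at `z` is a unit at some point over `z`. -/
theorem BC.exists_point_over {z : X} (hzU : z ∈ U) (b : ι →₀ Γ(X, U)) {i : ι}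
    (hi : z ∈ X.basicOpen (b i)) : ∃ z' : Y, β.g z' = z ∧ z' ∈ Y.basicOpen (β.comb e U b) := by
  obtain ⟨W, hW, hzW, hWU⟩ := exists_isAffineOpen_mem_and_subset (x := z) (U := U) hzU
  let P := hW.primeIdealOf ⟨z, hzW⟩
  let R := P.asIdeal.ResidueField
  let m : Γ(X, W) →+* R := algebraMap _ _
  letI : Algebra k R := (m.comp (β.cX W)).toAlgebra
  haveI : _root_.IsReduced (R ⊗[k] K) := Groth.Agent.HopfFF.isReduced_tensor_of_perfectField k R K
  obtain ⟨ψ, hψ₁, hψ⟩ := β.comb_desc e hW.isCompact hW.isQuasiSeparated m rfl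
  let bW := b.mapRange (GLinExtLib.rs (show W ≤ U from hWU)) (map_zero _)
  have hne : ψ (β.comb e W bW) ≠ 0 := by
    intro h0
    have := hψ bW i
    rw [h0, map_zero, Finsupp.zero_apply, Finsupp.mapRange_apply] at this
    have hmem : GLinExtLib.rs hWU (b i) ∈ P.asIdeal := (Ideal.algebraMap_residueField_eq_zero).1 this.symm
    have hz : hW.fromSpec P = z := hW.fromSpec_primeIdealOf _
    have h2 : P ∈ hW.fromSpec ⁻¹ᵁ X.basicOpen (GLinExtLib.rs hWU (b i)) := by
      show hW.fromSpec P ∈ X.basicOpen (X.presheaf.map (homOfLE hWU).op (b i))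
      rw [hz, Scheme.basicOpen_res]
      exact ⟨hzW, hi⟩
    rw [hW.fromSpec_preimage_basicOpen] at h2
    exact h2 hmem
  obtain ⟨Q, hQ, hQne⟩ : ∃ Q : Ideal (R ⊗[k] K), Q.IsPrime ∧ ψ (β.comb e W bW) ∉ Q := by
    by_contra hcon
    push_neg at hcon
    refine hne (IsNilpotent.eq_zero (mem_nilradical.1 ?_))
    rw [nilradical_eq_sInf]
    exact Ideal.mem_sInf.2 fun {Q} hQ => hcon Q hQ
  haveI := β.isAffineHom_g
  have hW' : IsAffineOpen (β.g ⁻¹ᵁ W) := hW.preimage β.g
  let Q' : PrimeSpectrum Γ(Y, β.g ⁻¹ᵁ W) := ⟨Q.comap ψ, inferInstance⟩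
  refine ⟨hW'.fromSpec Q', ?_, ?_⟩
  · rw [← Scheme.Hom.comp_apply, ← IsAffineOpen.SpecMap_appLE_fromSpec β.g hW hW' le_rfl, Scheme.Hom.comp_apply]
    refine Eq.trans (congrArg hW.fromSpec ?_) (hW.fromSpec_primeIdealOf ⟨z, hzW⟩)
    refine PrimeSpectrum.ext (Ideal.ext fun s => ?_)
    show β.g.appLE W _ le_rfl s ∈ Q.comap ψ ↔ s ∈ P.asIdeal
    rw [← Scheme.Hom.app_eq_appLE, Ideal.mem_comap, hψ₁]
    constructor
    · intro h
      by_contra hs
      have hu : IsUnit (m s ⊗ₜ[k] (1 : K)) := (IsUnit.mk0 (m s) (mt Ideal.algebraMap_residueField_eq_zero.1 hs)).map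
        (Algebra.TensorProduct.includeLeftRingHom : R →+* R ⊗[k] K)
      exact hQ.ne_top (Ideal.eq_top_of_isUnit_mem _ h hu)
    · intro h
      rw [show m s = 0 from Ideal.algebraMap_residueField_eq_zero.2 h, TensorProduct.zero_tmul]
      exact Q.zero_mem
  · have hres : GLinExtLib.rs (β.g.preimage_mono hWU) (β.comb e U b) = β.comb e W bW := by
      unfold BC.comb
      rw [GLinExtLib.rs, map_finsuppSum, Finsupp.sum_mapRange_index (by simp)]
      refine Finsupp.sum_congr fun j _ => ?_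
      rw [map_mul]
      congr 1
      · exact congr($((β.g.naturality (homOfLE hWU).op).symm) (b j))
      · exact β.rs_cY _ _
    have h2 : Q' ∈ hW'.fromSpec ⁻¹ᵁ Y.basicOpen (β.comb e W bW) := by
      rw [hW'.fromSpec_preimage_basicOpen]
      exact hQne
    rw [← hres] at h2
    have h3 : hW'.fromSpec Q' ∈ Y.basicOpen (GLinExtLib.rs (β.g.preimage_mono hWU) (β.comb e U b)) := h2
    rw [GLinExtLib.rs, Scheme.basicOpen_res] at h3
    exact h3.2

end GLinBCLib
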