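import Groth.Agent.GLinBCLib.Nat
import Groth.Agent.GLinShLib.PS
import Groth.Agent.GITAffLib.ProperPsi

/-!
# Descending semistability along a field extension
-/

set_option autoImplicit false
set_option backward.isDefEq.respectTransparency false
set_option synthInstance.maxHeartbeats 400000
set_option maxHeartbeats 1000000
set_option linter.style.haveILetI false
set_option linter.unusedSectionVars false

universe u

open CategoryTheory CategoryTheory.Limits MonoidalCategory CartesianMonoidalCategory AlgebraicGeometry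
  TopologicalSpace Opposite
open GLinExtLib (rs rs_rs rs_self rs_appLE appLE_rs appLE_appLE' appLE_hom)
open GLinShLib (Chart exists_chart nv IsRatio)

noncomputable section

namespace GLinBCLib

section Affine

variable {k K : Type u} [Field k] [Field K] [Algebra k K] [PerfectField k] {X Y : Scheme.{u}} (β : BC k K X Y)
  {ι : Type u} (e : Module.Basis ι k K) {U : X.Opens}

/-- If the nonvanishing open of a combination is affine, so are those of its coefficients. -/
theorem BC.isAffineOpen_basicOpen_coeff (hc : IsCompact (U : Set X)) (hs : IsQuasiSeparated (U : Set X))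
    (b : ι →₀ Γ(X, U)) (haff : IsAffineOpen (Y.basicOpen (β.comb e U b))) (i : ι) :
    IsAffineOpen (X.basicOpen (b i)) := by
  haveI := β.isAffineHom_g
  let S : Set Γ(X, U) := {a | ∃ W : X.Opens, IsAffineOpen W ∧ X.basicOpen a ≤ W ∧ W ≤ U}
  let I := Ideal.span S
  let J := I.map (β.g.app U).hom
  let φ := β.comb e U b
  have hcY : IsCompact (β.g ⁻¹ᵁ U : Set Y) := QuasiCompact.isCompact_preimage (f := β.g) _ U.isOpen hc
  have hsY : IsQuasiSeparated (β.g ⁻¹ᵁ U : Set Y) := by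
    haveI : QuasiSeparatedSpace U.toScheme := (isQuasiSeparated_iff_quasiSeparatedSpace _ U.isOpen).1 hs
    haveI : IsAffineHom (β.g ∣_ U) := IsZariskiLocalAtTarget.restrict (P := @IsAffineHom) β.isAffineHom_g U
    exact (isQuasiSeparated_iff_quasiSeparatedSpace _ (β.g ⁻¹ᵁ U).isOpen).2
      (quasiSeparatedSpace_of_quasiSeparated (β.g ∣_ U))
  haveI := isLocalization_basicOpen_of_qcqs hcY hsY φ
  let L : Γ(Y, β.g ⁻¹ᵁ U) →+* Γ(Y, Y.basicOpen φ) := algebraMap _ _
  have hL : ∀ j, Y.basicOpen (L j) = Y.basicOpen φ ⊓ Y.basicOpen j := fun j => Y.basicOpen_res _ _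
  have key : ∀ y ∈ Y.basicOpen φ, ∃ j ∈ J, y ∈ Y.basicOpen (L j) := by
    intro y hy
    obtain ⟨W, hW, hyW, hWU⟩ := exists_isAffineOpen_mem_and_subset (x := β.g y) (U := U) (Y.basicOpen_le _ hy)
    obtain ⟨a, haW, hya⟩ := haff.exists_basicOpen_le (V := β.g ⁻¹ᵁ W) ⟨y, hyW⟩ hy
    obtain ⟨⟨a', _, m, rfl⟩, ha'⟩ := IsLocalization.surj (Submonoid.powers φ) a
    have hu : Y.basicOpen (L (φ ^ m)) = Y.basicOpen φ :=
      Y.basicOpen_of_isUnit (IsLocalization.map_units _ (⟨φ ^ m, m, rfl⟩ : Submonoid.powers φ))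
    have e1 : Y.basicOpen (L a') = Y.basicOpen a := by
      rw [show L a' = a * L (φ ^ m) from ha'.symm, Scheme.basicOpen_mul, hu]
      exact inf_eq_left.2 (Y.basicOpen_le a)
    have hle : Y.basicOpen (a' * φ) ≤ β.g ⁻¹ᵁ W := by
      rw [Scheme.basicOpen_mul, inf_comm, ← hL, e1]
      exact haW
    refine ⟨a' * φ, ?_, ?_⟩
    · obtain ⟨c, hc'⟩ := β.exists_comb e hc hs (a' * φ)
      rw [hc']
      refine β.comb_mem_map e c fun l => Ideal.subset_span ⟨W, hW, fun z hz => ?_, hWU⟩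
      obtain ⟨z', hz', hz''⟩ := β.exists_point_over e (X.basicOpen_le _ hz) c hz
      rw [← hc'] at hz''
      have := hle hz''
      rw [← hz']
      exact this
    · rw [hL, Scheme.basicOpen_mul]
      have := e1.ge hya
      rw [hL] at this
      exact ⟨hy, this.2, hy⟩
  have hspan : J.map L = ⊤ := by
    refine haff.iSup_basicOpen_eq_self_iff.1 (le_antisymm (iSup_le fun f => Y.basicOpen_le _) fun y hy => ?_)
    obtain ⟨j, hj, hyj⟩ := key y hy
    exact Opens.mem_iSup.2 ⟨⟨L j, Set.mem_image_of_mem _ hj⟩, hyj⟩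
  obtain ⟨⟨⟨j, hj⟩, ⟨_, m, rfl⟩⟩, hjm⟩ := (IsLocalization.mem_map_algebraMap_iff (Submonoid.powers φ) _).1
    ((Ideal.eq_top_iff_one _).1 hspan)
  rw [one_mul] at hjm
  obtain ⟨⟨_, m', rfl⟩, hm'⟩ := IsLocalization.exists_of_eq (M := Submonoid.powers φ) hjm
  have hM : φ ^ (m' + m) ∈ J := by
    rw [pow_add]
    exact hm' ▸ J.mul_mem_left _ hj
  obtain ⟨N, hN⟩ := β.coeff_mem_radical e hc hs I b _ hM i
  let l : Γ(X, U) →+* Γ(X, X.basicOpen (b i)) := (X.presheaf.map (homOfLE (X.basicOpen_le (b i))).op).hom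
  refine isAffineOpen_of_isAffineOpen_basicOpen _ (l '' S) ?_ ?_
  · rw [← Ideal.map_span]
    exact Ideal.eq_top_of_isUnit_mem _ (Ideal.mem_map_of_mem l hN) (by
      rw [map_pow]
      exact (X.toLocallyRingedSpace.toRingedSpace.isUnit_res_basicOpen (b i)).pow N)
  · rintro _ ⟨a, ⟨W, hW, haW, hWU⟩, rfl⟩
    have : X.basicOpen (l a) = X.basicOpen (rs hWU (b i * a)) := by
      show X.basicOpen (X.presheaf.map _ a) = X.basicOpen (X.presheaf.map _ (b i * a))
      rw [Scheme.basicOpen_res, Scheme.basicOpen_res, Scheme.basicOpen_mul]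
      exact (inf_eq_right.2 (inf_le_right.trans haW)).symm
    rw [this]
    exact hW.basicOpen _

end Affine

section Orbit

variable {S : Scheme.{u}} {G X : Over S} [GrpObj G] (a : AlgGrp.Action G X)

/-- Closedness of an orbit descends along a flat surjective morphism of bases. -/
theorem isClosed_orbit_descend {T₁ T' : Over S} (θ : T₁ ⟶ T') [Flat θ.left] [Surjective θ.left]
    [QuasiCompact θ.left] (f : T' ⟶ X) (D : (X ⊗ T').left.Opens)
    (h : IsClosed ((fun p : (X ◁ θ).left ⁻¹ᵁ D => (p : (X ⊗ T₁).left)) ⁻¹'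
      Set.range (GIT.psi a (θ ≫ f)).left.base)) :
    IsClosed ((fun p : D => (p : (X ⊗ T').left)) ⁻¹' Set.range (GIT.psi a f).left.base) := by
  have H : IsPullback (X ◁ θ).left (snd X T₁).left (snd X T').left θ.left := by
    rw [Over.snd_left, Over.snd_left]
    exact Groth.Agent.FinHom.isPullback_whiskerLeft X θ
  haveI : Flat (X ◁ θ).left := MorphismProperty.of_isPullback H.flip inferInstance
  haveI : Surjective (X ◁ θ).left := MorphismProperty.of_isPullback H.flip inferInstance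
  haveI : QuasiCompact (X ◁ θ).left := MorphismProperty.of_isPullback H.flip inferInstance
  have hw : (G ◁ θ) ≫ GIT.psi a f = GIT.psi a (θ ≫ f) ≫ (X ◁ θ) := by
    refine CartesianMonoidalCategory.hom_ext _ _ ?_ ?_ <;> simp [GIT.psi]
  have sq : IsPullback (G ◁ θ).left (GIT.psi a (θ ≫ f)).left (GIT.psi a f).left (X ◁ θ).left := by
    refine IsPullback.of_right ?_ ?_ (GITAffLib.isPullback_psi a f)
    · rw [← Over.comp_left, ← Over.comp_left, ← MonoidalCategory.whiskerLeft_comp, ← MonoidalCategory.whiskerLeft_comp]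
      exact GITAffLib.isPullback_psi a (θ ≫ f)
    · rw [← Over.comp_left, ← Over.comp_left, hw]
  refine ((Flat.isQuotientMap_of_surjective (X ◁ θ).left).restrictPreimage_isOpen D.isOpen).isClosed_preimage.1 ?_
  refine Eq.subst (motive := IsClosed) ?_ h
  refine Set.ext fun p => Iff.symm ?_
  constructor
  · rintro ⟨v, hv⟩
    obtain ⟨w, -, hw2⟩ := Scheme.exists_preimage_of_isPullback sq v p.1 hv
    exact ⟨w, hw2⟩
  · rintro ⟨w, hw2⟩
    refine ⟨(G ◁ θ).left w, ?_⟩
    show (GIT.psi a f).left ((G ◁ θ).left w) = (X ◁ θ).left p.1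
    have e : (GIT.psi a f).left ((G ◁ θ).left w) = (X ◁ θ).left ((GIT.psi a (θ ≫ f)).left w) :=
      congr(($hw).left w)
    rw [e]
    exact congrArg _ hw2

end Orbit

variable {k : Type u} [Field k] {K : Type u} [Field K] [Algebra k K]
  {G X T : Over (Spec (CommRingCat.of k))} [GrpObj G] {a : AlgGrp.Action G X} {a' : AlgGrp.Action G (X ⊗ T)}
  {eT : T.left ≅ Spec (CommRingCat.of K)} {B : GLinSh.LinBun G a} {B' : GLinSh.LinBun G a'} {q : B'.V ⟶ B.V}
  {ι : Type u} (e : Module.Basis ι k K)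

/-- The coefficients of an invariant section are invariant sections. -/
theorem BCData.isInvSection_coeff (d : BCData eT B B' q) [CompactSpace X.left] [QuasiSeparatedSpace X.left]
    [IsAffineHom G.hom] {n : ℕ} {f' : Γ(B'.V.left, ⊤)} (hf' : B'.IsInvSection n f')
    (b : ι →₀ Γ(B.V.left, ⊤)) (hb : f' = d.bcV.comb e ⊤ b) (i : ι) : B.IsInvSection n (b i) := by
  refine ⟨GLinShLib.hasWeight_of_cover fun x => ?_, ?_⟩
  · obtain ⟨Kc, hKc, -⟩ := exists_chart (B := B) x (O := ⊤) trivial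
    let U := B.π.left ⁻¹ᵁ Kc.W
    let W := B'.π.left ⁻¹ᵁ ((fst X T).left ⁻¹ᵁ Kc.W)
    obtain ⟨c', hc'⟩ := (d.chartR Kc).exists_coeff hf'.1
    obtain ⟨bc, hbc⟩ := d.bcX.exists_comb e Kc.affine.isCompact Kc.affine.isQuasiSeparated c'
    have hW : W ≤ d.bcV.g ⁻¹ᵁ U := d.hle Kc.W
    have hWe : W = d.bcV.g ⁻¹ᵁ U := (d.pre_eq Kc.W).symm
    have hg : B'.π.left ≫ d.bcX.g = d.bcV.g ≫ B.π.left := by
      show B'.π.left ≫ (fst X T).left = q.left ≫ B.π.left
      rw [← Over.comp_left, ← Over.comp_left, d.hq]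
    have hi : B'.π.left ≫ d.bcX.iY = d.bcV.iY := by
      show B'.π.left ≫ (snd X T).left ≫ eT.hom = (B'.π ≫ snd X T).left ≫ eT.hom
      rw [Over.comp_left, Category.assoc]
    have key : b.mapRange (GLinSh.resTop B.π Kc.W) (map_zero _) =
        (bc.mapRange (B.π.left.appLE Kc.W U le_rfl) (map_zero _)).mapRange (· * Kc.coord ^ n) (zero_mul _) := by
      refine d.bcV.comb_injective e Kc.affine_preimage.isCompact Kc.affine_preimage.isQuasiSeparated
        (rs_injective hW hWe ?_)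
      have h1 : rs hW (d.bcV.comb e U (b.mapRange (GLinSh.resTop B.π Kc.W) (map_zero _))) =
          GLinSh.resTop B'.π (d.chartR Kc).W f' := by
        refine (congrArg (rs hW) (d.bcV.comb_res e (le_top : U ≤ ⊤) b).symm).trans ?_
        rw [rs_rs, ← hb]
        rfl
      refine h1.trans (hc'.trans ?_)
      rw [BC.comb_mul]
      show _ = (B'.V.left.presheaf.map (homOfLE hW).op).hom (_ * _)
      rw [map_mul]
      refine congrArg₂ (· * ·) ?_ ?_
      · refine Eq.trans ?_ (d.bcX.comb_natural e d.bcV B.π.left B'.π.left hg hi le_rfl bc (le_rfl : W ≤ _) hW)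
        rw [← hbc, Scheme.Hom.app_eq_appLE]
        rfl
      · show _ = rs hW (q.left.app U (Kc.coord ^ n))
        rw [Scheme.Hom.app_eq_appLE]
        refine Eq.trans ?_ (rs_appLE q.left hW _ _).symm
        rw [map_pow]
        exact (congrArg (· ^ n) (d.coord_eq Kc)).symm
    refine ⟨Kc, hKc, bc i, ?_⟩
    have := DFunLike.congr_fun key i
    simp only [Finsupp.mapRange_apply] at this
    rw [Scheme.Hom.app_eq_appLE]
    exact this
  · haveI := B.atlas.affine
    haveI : CompactSpace B.V.left := QuasiCompact.compactSpace_of_compactSpace B.π.left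
    haveI : QuasiSeparatedSpace B.V.left := quasiSeparatedSpace_of_quasiSeparated B.π.left
    haveI : IsAffineHom (snd G B.V).left := by
      rw [Over.snd_left]; exact MorphismProperty.pullback_snd _ _ inferInstance
    haveI : CompactSpace (G ⊗ B.V).left := QuasiCompact.compactSpace_of_compactSpace (snd G B.V).left
    haveI : QuasiSeparatedSpace (G ⊗ B.V).left := quasiSeparatedSpace_of_quasiSeparated (snd G B.V).left
    have hi₂ : (snd G B'.V).left ≫ d.bcV.iY = d.bcGV.iY := by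
      show (snd G B'.V).left ≫ (B'.π ≫ snd X T).left ≫ eT.hom = (snd G B'.V ≫ B'.π ≫ snd X T).left ≫ eT.hom
      simp only [Over.comp_left, Category.assoc]
    have hi₁ : B'.lift.act.left ≫ d.bcV.iY = d.bcGV.iY := by
      have : B'.lift.act ≫ B'.π ≫ snd X T = snd G B'.V ≫ B'.π ≫ snd X T := by
        rw [← Category.assoc, B'.lift_π, Category.assoc, d.ha'', whiskerLeft_snd_assoc]
      show B'.lift.act.left ≫ (B'.π ≫ snd X T).left ≫ eT.hom = (snd G B'.V ≫ B'.π ≫ snd X T).left ≫ eT.hom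
      rw [← Category.assoc, ← Over.comp_left, this]
    have hg₁ : B'.lift.act.left ≫ d.bcV.g = d.bcGV.g ≫ B.lift.act.left := by
      show B'.lift.act.left ≫ q.left = (G ◁ q).left ≫ B.lift.act.left
      rw [← Over.comp_left, ← Over.comp_left, d.hlift]
    have hg₂ : (snd G B'.V).left ≫ d.bcV.g = d.bcGV.g ≫ (snd G B.V).left := by
      show (snd G B'.V).left ≫ q.left = (G ◁ q).left ≫ (snd G B.V).left
      rw [← Over.comp_left, ← Over.comp_left, whiskerLeft_snd]
    have key : b.mapRange (B.lift.act.left.appLE ⊤ ⊤ le_top) (map_zero _) =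
        b.mapRange ((snd G B.V).left.appLE ⊤ ⊤ le_top) (map_zero _) := by
      refine d.bcGV.comb_injective e isCompact_univ isQuasiSeparated_univ
        (rs_injective (le_top : (⊤ : (G ⊗ B'.V).left.Opens) ≤ _) rfl ?_)
      refine (d.bcV.comb_natural e d.bcGV _ _ hg₁ hi₁ le_top b (W := ⊤) le_top le_top).symm.trans
        (Eq.trans ?_ (d.bcV.comb_natural e d.bcGV _ _ hg₂ hi₂ le_top b (W := ⊤) le_top le_top))
      rw [← hb]
      have h2 := hf'.2
      rw [GLinSh.IsInvFn, Scheme.Hom.appTop, Scheme.Hom.appTop, Scheme.Hom.app_eq_appLE,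
        Scheme.Hom.app_eq_appLE] at h2
      exact h2
    have := DFunLike.congr_fun key i
    simp only [Finsupp.mapRange_apply] at this
    rw [GLinSh.IsInvFn, Scheme.Hom.appTop, Scheme.Hom.appTop, Scheme.Hom.app_eq_appLE, Scheme.Hom.app_eq_appLE]
    exact this

/-- Closed orbits descend. -/
theorem BCData.closedOrbitsOn_coeff (d : BCData eT B B' q) [PerfectField k] {Z : X.left.Opens}
    (b : ι →₀ Γ(X.left, Z)) (i : ι)
    (hinv : ∀ (Q : (G ⊗ (X ⊗ T)).left.Opens) (h₁ : Q ≤ a'.act.left ⁻¹ᵁ ((fst X T).left ⁻¹ᵁ Z))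
      (h₂ : Q ≤ (snd G (X ⊗ T)).left ⁻¹ᵁ ((fst X T).left ⁻¹ᵁ Z)),
      a'.act.left.appLE _ Q h₁ (d.bcX.comb e Z b) = (snd G (X ⊗ T)).left.appLE _ Q h₂ (d.bcX.comb e Z b))
    {U' : (X ⊗ T).left.Opens} (hU' : (X ⊗ T).left.basicOpen (d.bcX.comb e Z b) ≤ U')
    (hcl : GLinSh.ClosedOrbitsOn a' U') : GLinSh.ClosedOrbitsOn a (X.left.basicOpen (b i)) := by
  intro Ω _ _ T' eT' f hf
  let P : (X ⊗ T).left.Opens := (fst X T).left ⁻¹ᵁ Z
  let φ : Γ((X ⊗ T).left, P) := d.bcX.comb e Z b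
  let t : T'.left := eT'.inv (Classical.arbitrary _)
  have hz : f.left t ∈ X.left.basicOpen (b i) := hf ⟨t, rfl⟩
  obtain ⟨z', hz', hzφ⟩ := d.bcX.exists_point_over e (X.left.basicOpen_le _ hz) b hz
  obtain ⟨p₀, hp₁, hp₂⟩ :=
    Scheme.Pullback.exists_preimage_pullback (f := f.left) (g := (fst X T).left) t z' hz'.symm
  let Z₁ : Over (Spec (CommRingCat.of k)) := Over.mk (pullback.fst f.left (fst X T).left ≫ T'.hom)
  obtain ⟨Ω₁, _, _, T₁, e₁, h₁, -, -, hr⟩ := GLinShLib.exists_geomPoint (Z := Z₁) p₀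
  let π₁ : Z₁ ⟶ T' := Over.homMk (pullback.fst f.left (fst X T).left) rfl
  let π₂ : Z₁ ⟶ X ⊗ T := Over.homMk (pullback.snd f.left (fst X T).left) (by
    show pullback.snd f.left (fst X T).left ≫ (X ⊗ T).hom = pullback.fst f.left (fst X T).left ≫ T'.hom
    rw [← Over.w (fst X T), ← Over.w f, pullback.condition_assoc])
  let θ := h₁ ≫ π₁
  let f₁ := h₁ ≫ π₂
  have hθf : θ ≫ f = f₁ ≫ fst X T := by
    simp only [θ, f₁, Category.assoc]
    congr 1
    exact Over.OverMorphism.ext pullback.condition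
  have hf₁ : ∀ w, f₁.left w = z' := fun w => by
    show pullback.snd f.left (fst X T).left (h₁.left w) = z'
    have : h₁.left w = p₀ := hr.le ⟨w, rfl⟩
    rw [this, hp₂]
  haveI : Subsingleton T'.left := eT'.hom.homeomorph.injective.subsingleton
  haveI : IsAffine T'.left := IsAffine.of_isIso eT'.hom
  haveI : IsAffine T₁.left := IsAffine.of_isIso e₁.hom
  haveI : Surjective θ.left := ⟨fun x => ⟨e₁.inv (Classical.arbitrary _), Subsingleton.elim _ _⟩⟩
  haveI : Flat θ.left := by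
    let ψ := Spec.preimage (e₁.inv ≫ θ.left ≫ eT'.hom)
    haveI : Flat (Spec.map ψ) := by
      rw [Flat.SpecMap_iff]
      letI := ψ.hom.toAlgebra
      exact RingHom.flat_algebraMap_iff.2 inferInstance
    have : θ.left = e₁.hom ≫ Spec.map ψ ≫ eT'.inv := by simp [ψ]
    rw [this]
    infer_instance
  refine isClosed_orbit_descend a θ f _ ?_
  haveI := d.isClosedImmersion_sec f₁
  let u : X ⊗ T₁ ⟶ X ⊗ T := sec f₁ ≫ fst (X ⊗ T) T₁
  have hu : u ≫ fst X T = fst X T₁ := by rw [Category.assoc, sec_fst]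
  have hD : ((X ◁ θ).left ⁻¹ᵁ ((fst X T').left ⁻¹ᵁ X.left.basicOpen (b i))) =
      (fst X T₁).left ⁻¹ᵁ X.left.basicOpen (b i) := by
    rw [← Scheme.Hom.comp_preimage, ← Over.comp_left, whiskerLeft_fst]
  rw [hD]
  let D₁ := (fst X T₁).left ⁻¹ᵁ X.left.basicOpen (b i)
  let A := Set.range (GIT.psi a (θ ≫ f)).left.base
  have hrange : Set.range f₁.left.base ⊆ (U' : Set (X ⊗ T).left) := by
    rintro _ ⟨w, rfl⟩
    exact hU' ((hf₁ w).symm ▸ hzφ)
  obtain ⟨C, hC, hCA⟩ := isClosed_induced_iff.1 (hcl Ω₁ T₁ e₁ f₁ hrange)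
  have hA : (sec f₁).left ⁻¹' Set.range (GIT.psi a' f₁).left.base = A := by
    rw [d.psi_eq, Over.comp_left, Scheme.Hom.comp_base, TopCat.coe_comp, Set.range_comp, ← hθf]
    exact Set.preimage_image_eq _ (sec f₁).left.isClosedEmbedding.injective
  have hAC : ∀ w : (X ⊗ T₁).left, u.left w ∈ U' → ((sec f₁).left w ∈ C ↔ w ∈ A) := fun w hw => by
    rw [← hA]
    exact Set.ext_iff.1 hCA ⟨(sec f₁).left w, hw⟩
  refine isClosed_induced_iff.2 ⟨closure A, isClosed_closure, ?_⟩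
  ext ⟨w₀, hw₀⟩
  refine ⟨fun hw => ?_, fun hw => subset_closure hw⟩
  have huP : D₁ ≤ u.left ⁻¹ᵁ P := fun w hw => by
    show (fst X T).left (u.left w) ∈ Z
    rw [← Scheme.Hom.comp_apply, ← Over.comp_left, hu]
    exact X.left.basicOpen_le _ hw
  have hcP : ∀ w, ((snd X T₁) ≫ f₁).left w ∈ (X ⊗ T).left.basicOpen φ := fun w =>
    (hf₁ _).symm ▸ hzφ
  have hcP' : D₁ ≤ ((snd X T₁) ≫ f₁).left ⁻¹ᵁ P := fun w _ => (X ⊗ T).left.basicOpen_le φ (hcP w)
  let φ₁ := u.left.appLE P D₁ huP φ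
  let c₁ := ((snd X T₁) ≫ f₁).left.appLE P D₁ hcP' φ
  let W₁ := (GIT.psi a (θ ≫ f)).left ⁻¹ᵁ D₁
  let m : G ⊗ T₁ ⟶ G ⊗ (X ⊗ T) := G ◁ f₁
  have e₁' : GIT.psi a (θ ≫ f) ≫ u = m ≫ a'.act := by
    rw [hθf, ← Category.assoc, ← d.psi_eq]
    simp [GIT.psi, m]
  have e₂' : GIT.psi a (θ ≫ f) ≫ snd X T₁ ≫ f₁ = m ≫ snd G (X ⊗ T) := by
    simp [GIT.psi, m]
  have hd : (GIT.psi a (θ ≫ f)).left.appLE D₁ W₁ le_rfl (φ₁ - c₁) = 0 := by
    rw [map_sub, sub_eq_zero, appLE_appLE', appLE_appLE']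
    let Q : (G ⊗ (X ⊗ T)).left.Opens := a'.act.left ⁻¹ᵁ P ⊓ (snd G (X ⊗ T)).left ⁻¹ᵁ P
    have hQ : W₁ ≤ m.left ⁻¹ᵁ Q := fun v hv => by
      refine ⟨?_, ?_⟩
      · show (m ≫ a'.act).left v ∈ P
        rw [← e₁']
        exact huP hv
      · show (m ≫ snd G (X ⊗ T)).left v ∈ P
        rw [← e₂']
        exact hcP' hv
    have := congrArg (m.left.appLE Q W₁ hQ) (hinv Q inf_le_left inf_le_right)
    rw [appLE_appLE', appLE_appLE'] at this
    refine Eq.trans ?_ (this.trans ?_)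
    · exact appLE_hom (congrArg CommaMorphism.left e₁') _ _ _
    · exact appLE_hom (congrArg CommaMorphism.left e₂').symm _ _ _
  have hdA : w₀ ∉ (X ⊗ T₁).left.basicOpen (φ₁ - c₁) := fun hd₀ => by
    obtain ⟨_, hv, ⟨v, rfl⟩⟩ := mem_closure_iff.1 hw _ ((X ⊗ T₁).left.basicOpen (φ₁ - c₁)).isOpen hd₀
    have : v ∈ (GIT.psi a (θ ≫ f)).left ⁻¹ᵁ (X ⊗ T₁).left.basicOpen (φ₁ - c₁) := hv
    rw [Scheme.preimage_basicOpen, Scheme.Hom.app_eq_appLE, hd, Scheme.basicOpen_zero] at this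
    exact this
  have hc₁ : w₀ ∈ (X ⊗ T₁).left.basicOpen c₁ := by
    rw [Scheme.basicOpen_appLE]
    exact ⟨hw₀, hcP w₀⟩
  have hφ₁ : w₀ ∈ (X ⊗ T₁).left.basicOpen φ₁ := by
    rw [Scheme.mem_basicOpen _ _ _ hw₀] at hdA hc₁ ⊢
    by_contra hn
    refine hn.elim ?_
    have h1 : (X ⊗ T₁).left.presheaf.germ D₁ w₀ hw₀ φ₁ =
        (X ⊗ T₁).left.presheaf.germ D₁ w₀ hw₀ (φ₁ - c₁) + (X ⊗ T₁).left.presheaf.germ D₁ w₀ hw₀ c₁ := by
      rw [← map_add, sub_add_cancel]
    by_contra hn'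
    have := Ideal.sub_mem _ ((IsLocalRing.mem_maximalIdeal _).2 hn) ((IsLocalRing.mem_maximalIdeal _).2 hdA)
    rw [← map_sub, sub_sub_cancel] at this
    exact (IsLocalRing.mem_maximalIdeal _).1 this hc₁
  rw [Scheme.basicOpen_appLE] at hφ₁
  have hwU : u.left w₀ ∈ U' := hU' hφ₁.2
  have hsubC : A ⊆ (sec f₁).left ⁻¹' C ∪ {w | u.left w ∉ U'} := fun w hwA => by
    by_cases h : u.left w ∈ U'
    · exact Or.inl ((hAC w h).2 hwA)
    · exact Or.inr h
  have : IsClosed ((sec f₁).left ⁻¹' C ∪ {w | u.left w ∉ U'}) :=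
    (hC.preimage (sec f₁).left.continuous).union (U'.isOpen.preimage u.left.continuous).isClosed_compl
  rcases closure_minimal hsubC this hw with h | h
  · exact (hAC w₀ hwU).1 h
  · exact absurd hwU h

end GLinBCLib
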