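import Groth.Agent.GLinBCLib.Down

/-!
# Semistable and stable loci under field extension
-/

set_option autoImplicit false
set_option backward.isDefEq.respectTransparency false
set_option synthInstance.maxHeartbeats 400000
set_option maxHeartbeats 1000000
set_option linter.style.haveILetI false
set_option linter.unusedSectionVars false

universe u

open CategoryTheory CategoryTheory.Limits MonoidalCategory CartesianMonoidalCategory AlgebraicGeometry
  TopologicalSpace Opposite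
open GLinExtLib (rs rs_rs rs_self rs_appLE appLE_rs appLE_appLE' appLE_hom)
open GLinShLib (Chart exists_chart nv IsRatio)

noncomputable section

namespace GLinBCLib

section Ratio

variable {S : Scheme.{u}} {G X : Over S} [GrpObj G] {a : AlgGrp.Action G X} {B : GLinSh.LinBun G a}

/-- Properties of a ratio on an open equal to a nonvanishing locus. -/
theorem ratio_props {n : ℕ} {h g : Γ(B.V.left, ⊤)} (hh : B.IsInvSection n h) (hg : B.IsInvSection n g)
    {P : X.left.Opens} (hP : P = nv hh.1) {s : Γ(X.left, P)} (hs : IsRatio P 1 1 h g s) :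
    (∀ (Q : (G ⊗ X).left.Opens) (h₁ : Q ≤ a.act.left ⁻¹ᵁ P) (h₂ : Q ≤ (snd G X).left ⁻¹ᵁ P),
      a.act.left.appLE P Q h₁ s = (snd G X).left.appLE P Q h₂ s) ∧ X.left.basicOpen s = P ⊓ nv hg.1 := by
  subst hP
  refine ⟨fun Q h₁ h₂ => ?_, GLinShLib.basicOpen_ratio' one_ne_zero hh.1 hg.1 hs⟩
  have := congrArg (rs h₂) (GLinShLib.ratio_invariant' hh hg hs)
  rw [rs_appLE, rs_appLE] at this
  exact this

end Ratio

variable {k : Type u} [Field k] {K : Type u} [Field K] [Algebra k K]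
  {G X T : Over (Spec (CommRingCat.of k))} [GrpObj G] {a : AlgGrp.Action G X} {a' : AlgGrp.Action G (X ⊗ T)}
  {eT : T.left ≅ Spec (CommRingCat.of K)} {B : GLinSh.LinBun G a} {B' : GLinSh.LinBun G a'} {q : B'.V ⟶ B.V}
  {ι : Type u}

/-- An invariant section upstairs gives one downstairs. -/
theorem BCData.exists_down (d : BCData eT B B' q) [PerfectField k] [CompactSpace X.left]
    [IsLocallyNoetherian X.left] [IsAffineHom G.hom] {n : ℕ} (hn : 1 ≤ n) {f' : Γ(B'.V.left, ⊤)}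
    (hf' : B'.IsInvSection n f') {U' : (X ⊗ T).left.Opens} (hU : (U' : Set (X ⊗ T).left) = GLinSh.nonvanishing B'.π f')
    (haff : IsAffineOpen U') {x' : (X ⊗ T).left} (hx : x' ∈ U') :
    ∃ (N : ℕ) (F : Γ(B.V.left, ⊤)), 1 ≤ N ∧ B.IsInvSection N F ∧
      (fst X T).left x' ∈ GLinSh.nonvanishing B.π F ∧
      ∃ U : X.left.Opens, (U : Set X.left) = GLinSh.nonvanishing B.π F ∧ IsAffineOpen U ∧
        (GLinSh.ClosedOrbitsOn a' U' → GLinSh.ClosedOrbitsOn a U) := by
  haveI : QuasiSeparatedSpace X.left := inferInstance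
  haveI : NoetherianSpace X.left := by
    haveI : IsNoetherian X.left := { }
    infer_instance
  haveI := B.atlas.affine
  haveI : CompactSpace B.V.left := QuasiCompact.compactSpace_of_compactSpace B.π.left
  haveI : QuasiSeparatedSpace B.V.left := quasiSeparatedSpace_of_quasiSeparated B.π.left
  haveI : QuasiCompact G.hom := inferInstance
  let e := Module.Free.chooseBasis k K
  obtain ⟨b, hb⟩ := d.bcV.exists_comb e (U := ⊤) isCompact_univ isQuasiSeparated_univ f'
  have hbi := d.isInvSection_coeff e hf' b hb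
  have hU'nv : U' = nv hf'.1 := Opens.ext hU
  subst hU'nv
  obtain ⟨v', hv', hvx⟩ := hx
  obtain ⟨i₀, hi₀⟩ := d.bcV.exists_mem_of_comb e (b := b) (y := v') (hb ▸ hv')
  set h₀ := b i₀
  let Z := nv (hbi i₀).1
  have hxZ : (fst X T).left x' ∈ Z := ⟨q.left v', hi₀, by
    rw [← hvx]
    exact congr(($(d.hq)).left v').symm⟩
  have hratio : ∀ i, ∃ s, IsRatio Z 1 1 h₀ (b i) s := fun i =>
    GLinShLib.exists_ratio' (hbi i₀).1 (hbi i).1 rfl
  choose σ hσ using hratio
  have hσ0 : ∀ i, σ i ≠ 0 → i ∈ b.support := fun i hi => Finsupp.mem_support_iff.2 fun h0 => hi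
    (IsRatio.unique' (hbi i₀).1 le_rfl (hσ i) (by
      rw [h0]; unfold GLinShLib.IsRatio
      simp only [map_zero, zero_mul, pow_one]))
  let s : _ →₀ Γ(X.left, Z) := Finsupp.onFinset b.support σ hσ0
  have hs : ∀ i, IsRatio Z 1 1 h₀ (b i) (s i) := hσ
  let φ := d.bcX.comb e Z s
  let P : (X ⊗ T).left.Opens := (fst X T).left ⁻¹ᵁ Z
  let h₀' := q.left.appTop h₀
  have hh₀' : B'.IsInvSection n h₀' := d.isInvSection (hbi i₀)
  have hP : P = nv hh₀'.1 := Opens.ext (d.nonvanishing_eq (hbi i₀)).symm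
  have hφ : IsRatio P 1 1 h₀' f' φ := by
    unfold GLinShLib.IsRatio
    rw [pow_one, pow_one]
    let D := B.π.left ⁻¹ᵁ Z ⊓ B.V.left.basicOpen h₀
    let D' := B'.π.left ⁻¹ᵁ P ⊓ B'.V.left.basicOpen h₀'
    have hD : D' ≤ d.bcV.g ⁻¹ᵁ D := by
      show D' ≤ q.left ⁻¹ᵁ (B.π.left ⁻¹ᵁ Z ⊓ B.V.left.basicOpen h₀)
      rw [Scheme.Hom.preimage_inf]
      refine le_inf ((inf_le_left : D' ≤ _).trans (d.hle Z)) ((inf_le_right : D' ≤ _).trans ?_)
      exact (Scheme.preimage_basicOpen_top _ _).ge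
    have hg : B'.π.left ≫ d.bcX.g = d.bcV.g ≫ B.π.left := by
      show B'.π.left ≫ (fst X T).left = q.left ≫ B.π.left
      rw [← Over.comp_left, ← Over.comp_left, d.hq]
    have hi : B'.π.left ≫ d.bcX.iY = d.bcV.iY := by
      show B'.π.left ≫ (snd X T).left ≫ eT.hom = (B'.π ≫ snd X T).left ≫ eT.hom
      rw [Over.comp_left, Category.assoc]
    show B'.π.left.appLE P D' inf_le_left φ * rs (le_top : D' ≤ ⊤) h₀' = rs (le_top : D' ≤ ⊤) f'
    have h1 := d.bcX.comb_natural e d.bcV B.π.left B'.π.left hg hi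
      (inf_le_left : D ≤ B.π.left ⁻¹ᵁ Z) s (W := D') inf_le_left hD
    have h2 : rs (le_top : D' ≤ ⊤) h₀' = rs hD (d.bcV.g.app D (rs (le_top : D ≤ ⊤) h₀)) := by
      show rs _ (q.left.appTop h₀) = rs hD (q.left.app D (rs _ h₀))
      rw [Scheme.Hom.appTop, Scheme.Hom.app_eq_appLE, Scheme.Hom.app_eq_appLE, appLE_rs]
      exact (rs_appLE q.left _ _ _).trans (rs_appLE q.left _ _ _).symm
    have h3 : rs (le_top : D' ≤ ⊤) f' =
        rs hD (d.bcV.comb e D (b.mapRange (rs (le_top : D ≤ ⊤)) (map_zero _))) := by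
      refine Eq.trans ?_ (congrArg (rs hD) (d.bcV.comb_res e (le_top : D ≤ ⊤) b))
      rw [rs_rs, ← hb]
      rfl
    rw [show B'.π.left.appLE P D' inf_le_left φ = _ from h1, h2, h3, rs, ← map_mul, ← BC.comb_mul]
    congr 2
    ext i
    simp only [Finsupp.mapRange_apply]
    have := hs i
    unfold GLinShLib.IsRatio at this
    rw [pow_one, pow_one] at this
    exact this
  obtain ⟨hinv, hDφ⟩ := ratio_props hh₀' hf' hP hφ
  obtain ⟨t, ht⟩ := GLinShLib.exists_ratio' (n := 1) (m := 1) hf'.1 hh₀'.1 rfl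
  have haffφ : IsAffineOpen ((X ⊗ T).left.basicOpen φ) := by
    rw [hDφ, hP, inf_comm, ← GLinShLib.basicOpen_ratio' one_ne_zero hf'.1 hh₀'.1 ht]
    exact haff.basicOpen t
  have hxφ : x' ∈ (X ⊗ T).left.basicOpen φ := hDφ.ge ⟨hxZ, ⟨v', hv', hvx⟩⟩
  obtain ⟨i, hi⟩ := d.bcX.exists_mem_of_comb e hxφ
  have hZc : IsCompact (Z : Set X.left) := NoetherianSpace.isCompact _
  have hZs : IsQuasiSeparated (Z : Set X.left) :=
    isQuasiSeparated_univ.of_subset (Set.subset_univ _)
  have hsaff : IsAffineOpen (X.left.basicOpen (s i)) :=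
    d.bcX.isAffineOpen_basicOpen_coeff e hZc hZs s haffφ i
  have hsinv : a.act.left.appLE Z ((snd G X).left ⁻¹ᵁ Z) (GLinShLib.isInvOpen_nv (hbi i₀)).ge (s i) =
      (snd G X).left.appLE Z ((snd G X).left ⁻¹ᵁ Z) le_rfl (s i) :=
    GLinShLib.ratio_invariant' (hbi i₀) (hbi i) (hs i)
  obtain ⟨M, hM, hext⟩ := GLinShLib.exists_extension (hbi i₀) (s i) hsinv
  obtain ⟨F, hF, hFs⟩ := hext M le_rfl
  have hnvM : nv (GLinShLib.hasWeight_pow (hbi i₀).1 M) = Z := Opens.ext (GLinShLib.nonvanishing_pow h₀ hM)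
  obtain ⟨-, hDs⟩ := ratio_props (GLinShLib.isInvSection_pow (hbi i₀) M) hF hnvM.symm hFs
  have hnv : nv (GLinShLib.isInvSection_mul hF (hbi i₀)).1 = X.left.basicOpen (s i) := by
    rw [hDs, inf_comm]
    exact GLinShLib.nv_mul hF.1 (hbi i₀).1
  refine ⟨n * M + n, F * h₀, by omega, GLinShLib.isInvSection_mul hF (hbi i₀), ?_,
    X.left.basicOpen (s i), congrArg (fun O : X.left.Opens => (O : Set X.left)) hnv.symm, hsaff, fun hcl => ?_⟩
  · exact hnv.ge hi
  · exact d.closedOrbitsOn_coeff e s i hinv (hDφ.le.trans inf_le_right) hcl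

end GLinBCLib
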