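import Groth.Agent.GLinBCLib.Pull

/-!
# Naturality of combinations
-/

set_option autoImplicit false
set_option backward.isDefEq.respectTransparency false
set_option synthInstance.maxHeartbeats 400000
set_option maxHeartbeats 1000000
set_option linter.style.haveILetI false
set_option linter.unusedSectionVars false

universe u

open CategoryTheory CategoryTheory.Limits MonoidalCategory CartesianMonoidalCategory AlgebraicGeometry
  TopologicalSpace Opposite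

open GLinExtLib (rs rs_rs rs_self rs_appLE appLE_rs appLE_appLE' appLE_hom)
open GLinShLib (Chart exists_chart)

noncomputable section

namespace GLinBCLib

theorem rs_injective {P : Scheme.{u}} {U W : P.Opens} (h : W ≤ U) (h' : W = U) : Function.Injective (rs h) := by
  subst h'
  intro s t e
  rwa [rs_self, rs_self] at e

variable {k K : Type u} [Field k] [Field K] [Algebra k K] {X Y : Scheme.{u}} (β : BC k K X Y)

theorem BC.cY_natural {X₂ Y₂ : Scheme.{u}} (β₂ : BC k K X₂ Y₂) (r' : Y₂ ⟶ Y) (hi : r' ≫ β.iY = β₂.iY)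
    {O : Y.Opens} {W : Y₂.Opens} (h : W ≤ r' ⁻¹ᵁ O) (c : K) : r'.appLE O W h (β.cY O c) = β₂.cY W c := by
  show r'.appLE O W h (β.iY.appLE ⊤ O le_top _) = β₂.iY.appLE ⊤ W le_top _
  rw [appLE_appLE']
  exact appLE_hom hi _ _ _

variable {ι : Type u} (e : Module.Basis ι k K) {U : X.Opens}

theorem BC.comb_natural {X₂ Y₂ : Scheme.{u}} (β₂ : BC k K X₂ Y₂) (r : X₂ ⟶ X) (r' : Y₂ ⟶ Y)
    (hg : r' ≫ β.g = β₂.g ≫ r) (hi : r' ≫ β.iY = β₂.iY) {U₂ : X₂.Opens} (hU : U₂ ≤ r ⁻¹ᵁ U)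
    (b : ι →₀ Γ(X, U)) {W : Y₂.Opens} (h₁ : W ≤ r' ⁻¹ᵁ (β.g ⁻¹ᵁ U)) (h₂ : W ≤ β₂.g ⁻¹ᵁ U₂) :
    r'.appLE _ W h₁ (β.comb e U b) =
      rs h₂ (β₂.comb e U₂ (b.mapRange (r.appLE U U₂ hU) (map_zero _))) := by
  unfold BC.comb
  rw [map_finsuppSum, rs, map_finsuppSum, Finsupp.sum_mapRange_index (by simp)]
  refine Finsupp.sum_congr fun i _ => ?_
  rw [map_mul, map_mul, β.cY_natural β₂ r' hi h₁]
  refine congrArg₂ (· * ·) ?_ (β₂.rs_cY h₂ _).symm
  rw [Scheme.Hom.app_eq_appLE, appLE_appLE', Scheme.Hom.app_eq_appLE]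
  show _ = rs h₂ (β₂.g.appLE U₂ _ _ (r.appLE U U₂ hU (b i)))
  rw [appLE_appLE', rs_appLE]
  exact appLE_hom hg _ _ _

theorem BC.comb_res {U₂ : X.Opens} (h : U₂ ≤ U) (b : ι →₀ Γ(X, U)) :
    rs (β.g.preimage_mono h) (β.comb e U b) = β.comb e U₂ (b.mapRange (rs h) (map_zero _)) := by
  unfold BC.comb
  rw [rs, map_finsuppSum, Finsupp.sum_mapRange_index (by simp)]
  refine Finsupp.sum_congr fun i _ => ?_
  rw [map_mul]
  exact congrArg₂ (· * ·) congr($((β.g.naturality (homOfLE h).op).symm) (b i)) (β.rs_cY _ _)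

theorem BC.comb_mul (b : ι →₀ Γ(X, U)) (z : Γ(X, U)) :
    β.comb e U (b.mapRange (· * z) (zero_mul z)) = β.comb e U b * β.g.app U z := by
  unfold BC.comb
  rw [Finsupp.sum_mapRange_index (by simp), Finsupp.sum_mul]
  refine Finsupp.sum_congr fun i _ => ?_
  rw [map_mul]
  ring

theorem BC.comb_mem_map {I : Ideal Γ(X, U)} (b : ι →₀ Γ(X, U)) (h : ∀ i, b i ∈ I) :
    β.comb e U b ∈ I.map (β.g.app U).hom :=
  Ideal.sum_mem _ fun i _ => Ideal.mul_mem_right _ _ (Ideal.mem_map_of_mem _ (h i))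

theorem BC.exists_mem_of_comb {b : ι →₀ Γ(X, U)} {y : Y} (hy : y ∈ Y.basicOpen (β.comb e U b)) :
    ∃ i, β.g y ∈ X.basicOpen (b i) := by
  by_contra hcon
  push_neg at hcon
  have hyU : y ∈ β.g ⁻¹ᵁ U := Y.basicOpen_le _ hy
  rw [Scheme.mem_basicOpen _ _ _ hyU] at hy
  refine (IsLocalRing.mem_maximalIdeal _).1 ?_ hy
  unfold BC.comb
  rw [map_finsuppSum]
  refine Ideal.sum_mem _ fun i _ => ?_
  show Y.presheaf.germ _ y hyU (β.g.app U (b i) * _) ∈ _
  rw [map_mul]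
  refine Ideal.mul_mem_right _ _ ((IsLocalRing.mem_maximalIdeal _).2 fun hu => hcon i ?_)
  show y ∈ β.g ⁻¹ᵁ X.basicOpen (b i)
  rw [Scheme.preimage_basicOpen, Scheme.mem_basicOpen _ _ _ hyU]
  exact hu

end GLinBCLib
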