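import Groth.Agent.GLinBCLib.Dec
import Groth.Agent.GLinShLib.Section
import Groth.Agent.GLinShLib.Inv
import Groth.Agent.GLinTotLib.Coord
import Groth.Agent.GITAffLib.NormalQuot
import Groth.Agent.FinHomLib.Affine

/-!
# The base change of a linearised bundle to a field extension
-/

set_option autoImplicit false
set_option backward.isDefEq.respectTransparency false
set_option synthInstance.maxHeartbeats 400000
set_option maxHeartbeats 1000000
set_option linter.style.haveILetI false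
set_option linter.unusedSectionVars false

universe u

open CategoryTheory CategoryTheory.Limits MonoidalCategory CartesianMonoidalCategory AlgebraicGeometry
  TopologicalSpace Opposite
open scoped MonObj
open GLinExtLib (rs rs_rs rs_self rs_appLE appLE_rs appLE_appLE' appLE_hom)
open GLinShLib (Chart exists_chart)

noncomputable section

namespace GLinBCLib

variable {k : Type u} [Field k] {K : Type u} [Field K] [Algebra k K]
  {G X T : Over (Spec (CommRingCat.of k))} [GrpObj G] {a : AlgGrp.Action G X} {a' : AlgGrp.Action G (X ⊗ T)}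

/-- `B'` is the base change of `B` to `K`. -/
structure BCData (eT : T.left ≅ Spec (CommRingCat.of K)) (B : GLinSh.LinBun G a) (B' : GLinSh.LinBun G a')
    (q : B'.V ⟶ B.V) : Prop where
  hT : eT.inv ≫ T.hom = Spec.map (CommRingCat.ofHom (algebraMap k K))
  ha' : a'.act ≫ fst X T = (G ◁ fst X T) ≫ a.act
  ha'' : a'.act ≫ snd X T = snd G (X ⊗ T) ≫ snd X T
  hq : B'.π ≫ fst X T = q ≫ B.π
  hlift : B'.lift.act ≫ q = (G ◁ q) ≫ B.lift.act
  hle : ∀ U : X.left.Opens, B'.π.left ⁻¹ᵁ ((fst X T).left ⁻¹ᵁ U) ≤ q.left ⁻¹ᵁ (B.π.left ⁻¹ᵁ U)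
  hchart : ∀ (U : X.left.Opens) (y : Γ(B.V.left, B.π.left ⁻¹ᵁ U)), y ∈ B.atlas.chart U →
      q.left.appLE (B.π.left ⁻¹ᵁ U) (B'.π.left ⁻¹ᵁ ((fst X T).left ⁻¹ᵁ U)) (hle U) y ∈
        B'.atlas.chart ((fst X T).left ⁻¹ᵁ U)

variable {eT : T.left ≅ Spec (CommRingCat.of K)} {B : GLinSh.LinBun G a} {B' : GLinSh.LinBun G a'} {q : B'.V ⟶ B.V}

/-- A cartesian square over the extension. -/
def bcOf (hT : eT.inv ≫ T.hom = Spec.map (CommRingCat.ofHom (algebraMap k K))) {Z Z' : Over (Spec (CommRingCat.of k))}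
    (g : Z' ⟶ Z) (t : Z' ⟶ T) (sq : IsPullback g.left t.left Z.hom T.hom) : BC k K Z.left Z'.left where
  g := g.left
  iX := Z.hom
  iY := t.left ≫ eT.hom
  sq := by
    refine sq.of_iso (Iso.refl _) (Iso.refl _) eT (Iso.refl _) ?_ ?_ ?_ ?_
    · simp
    · simp
    · simp
    · show T.hom ≫ 𝟙 _ = eT.hom ≫ _
      rw [← hT, Category.comp_id, Iso.hom_inv_id_assoc]

theorem isPullback_fst (Z T : Over (Spec (CommRingCat.of k))) :
    IsPullback (fst Z T).left (snd Z T).left Z.hom T.hom := by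
  rw [Over.fst_left, Over.snd_left]
  exact IsPullback.of_hasPullback Z.hom T.hom

/-- `X_K` over `X`. -/
def BCData.bcX (d : BCData eT B B' q) : BC k K X.left (X ⊗ T).left :=
  bcOf d.hT (fst X T) (snd X T) (isPullback_fst X T)

theorem BCData.affine_fst (d : BCData eT B B' q) : IsAffineHom (fst X T).left := d.bcX.isAffineHom_g

theorem BCData.pre_eq (d : BCData eT B B' q) (U : X.left.Opens) :
    q.left ⁻¹ᵁ (B.π.left ⁻¹ᵁ U) = B'.π.left ⁻¹ᵁ ((fst X T).left ⁻¹ᵁ U) := by
  rw [← Scheme.Hom.comp_preimage, ← Scheme.Hom.comp_preimage, ← Over.comp_left, ← Over.comp_left, d.hq]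

/-- The induced chart. -/
def BCData.chartR (d : BCData eT B B' q) (K : Chart B) : Chart B' where
  W := (fst X T).left ⁻¹ᵁ K.W
  affine := haveI := d.affine_fst; K.affine.preimage (fst X T).left
  U := (fst X T).left ⁻¹ᵁ K.U
  le := (fst X T).left.preimage_mono K.le
  y := q.left.appLE (B.π.left ⁻¹ᵁ K.U) (B'.π.left ⁻¹ᵁ ((fst X T).left ⁻¹ᵁ K.U)) (d.hle K.U) K.y
  mem := d.hchart K.U K.y K.mem

theorem BCData.coord_eq (d : BCData eT B B' q) (K : Chart B) :
    q.left.appLE (B.π.left ⁻¹ᵁ K.W) (B'.π.left ⁻¹ᵁ ((fst X T).left ⁻¹ᵁ K.W)) (d.hle K.W) K.coord = (d.chartR K).coord := by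
  simp only [Chart.coord, GLinSh.res, BCData.chartR, ← ConcreteCategory.comp_apply, Scheme.Hom.map_appLE,
    Scheme.Hom.appLE_map]

theorem BCData.app_eq (d : BCData eT B B' q) (U : X.left.Opens) (c : Γ(X.left, U)) :
    q.left.appLE (B.π.left ⁻¹ᵁ U) (B'.π.left ⁻¹ᵁ ((fst X T).left ⁻¹ᵁ U)) (d.hle U) (B.π.left.app U c) =
      B'.π.left.app ((fst X T).left ⁻¹ᵁ U) ((fst X T).left.app U c) := by
  rw [Scheme.Hom.app_eq_appLE, Scheme.Hom.app_eq_appLE, Scheme.Hom.app_eq_appLE, appLE_appLE', appLE_appLE']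
  exact appLE_hom (by rw [← Over.comp_left, ← Over.comp_left, d.hq]) _ _ _

theorem BCData.eval_eq (d : BCData eT B B' q) (K : Chart B) (P : Polynomial Γ(X.left, K.W)) :
    q.left.appLE (B.π.left ⁻¹ᵁ K.W) (B'.π.left ⁻¹ᵁ ((fst X T).left ⁻¹ᵁ K.W)) (d.hle K.W)
        (Polynomial.eval₂RingHom (B.π.left.app K.W).hom K.coord P) =
      Polynomial.eval₂RingHom (B'.π.left.app ((fst X T).left ⁻¹ᵁ K.W)).hom (d.chartR K).coord
        (P.map ((fst X T).left.app K.W).hom) := by
  refine (Polynomial.hom_eval₂ P _ (q.left.appLE _ _ (d.hle K.W)).hom _).trans ?_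
  show Polynomial.eval₂ _ (q.left.appLE _ _ (d.hle K.W) K.coord) P = Polynomial.eval₂ _ _ (P.map _)
  rw [Polynomial.eval₂_map, d.coord_eq]
  congr 1
  exact RingHom.ext fun c => d.app_eq K.W c

/-- Restrictions of sections. -/
theorem BCData.isInvSection (d : BCData eT B B' q) {n : ℕ} {f : Γ(B.V.left, ⊤)} (hf : B.IsInvSection n f) :
    B'.IsInvSection n (q.left.appTop f) := by
  refine ⟨GLinShLib.hasWeight_of_cover fun x => ?_, ?_⟩
  · obtain ⟨K, hK, -⟩ := exists_chart (B := B) ((fst X T).left x) (O := ⊤) trivial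
    obtain ⟨c, hc⟩ := K.exists_coeff hf.1
    refine ⟨d.chartR K, hK, (fst X T).left.app K.W c, ?_⟩
    have := congrArg (q.left.appLE _ _ (d.hle K.W)) hc
    rw [map_mul, map_pow, d.coord_eq, d.app_eq] at this
    refine Eq.trans ?_ this
    simp only [GLinSh.resTop, Scheme.Hom.appTop, Scheme.Hom.app_eq_appLE, ← ConcreteCategory.comp_apply,
      Scheme.Hom.appLE_map, Scheme.Hom.map_appLE]
    rfl
  · rw [GLinSh.IsInvFn, ← ConcreteCategory.comp_apply, ← ConcreteCategory.comp_apply, ← Scheme.Hom.comp_appTop,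
      ← Scheme.Hom.comp_appTop, ← Over.comp_left, ← Over.comp_left, d.hlift, ← whiskerLeft_snd G q, Over.comp_left,
      Over.comp_left, Scheme.Hom.comp_appTop, Scheme.Hom.comp_appTop, ConcreteCategory.comp_apply,
      ConcreteCategory.comp_apply, hf.2]

theorem BCData.nonvanishing_eq (d : BCData eT B B' q) {n : ℕ} {f : Γ(B.V.left, ⊤)} (hf : B.IsInvSection n f) :
    GLinSh.nonvanishing B'.π (q.left.appTop f) = (fst X T).left.base ⁻¹' GLinSh.nonvanishing B.π f := by
  ext x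
  obtain ⟨K, hK, -⟩ := exists_chart (B := B) ((fst X T).left x) (O := ⊤) trivial
  obtain ⟨c, hc⟩ := K.exists_coeff hf.1
  have hc' : GLinSh.resTop B'.π (d.chartR K).W (q.left.appTop f) =
      B'.π.left.app (d.chartR K).W ((fst X T).left.app K.W c) * (d.chartR K).coord ^ n := by
    have := congrArg (q.left.appLE _ _ (d.hle K.W)) hc
    rw [map_mul, map_pow, d.coord_eq, d.app_eq] at this
    refine Eq.trans ?_ this
    simp only [GLinSh.resTop, Scheme.Hom.appTop, Scheme.Hom.app_eq_appLE, ← ConcreteCategory.comp_apply,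
      Scheme.Hom.appLE_map, Scheme.Hom.map_appLE]
    rfl
  rw [GLinShLib.mem_nonvanishing_iff (d.chartR K) hc' hK, Set.mem_preimage, GLinShLib.mem_nonvanishing_iff K hc hK]
  show _ ↔ x ∈ (fst X T).left ⁻¹ᵁ X.left.basicOpen c
  rw [Scheme.preimage_basicOpen]


theorem BCData.isPullback_q (d : BCData eT B B' q) :
    IsPullback q.left B'.π.left B.π.left (fst X T).left := by
  haveI := B.atlas.affine
  haveI := B'.atlas.affine
  haveI := d.affine_fst
  have hw : q.left ≫ B.π.left = B'.π.left ≫ (fst X T).left := by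
    rw [← Over.comp_left, ← Over.comp_left, d.hq]
  let c := pullback.lift q.left B'.π.left hw
  suffices IsIso c from IsPullback.of_iso_pullback ⟨hw⟩ (asIso c) (pullback.lift_fst _ _ _) (pullback.lift_snd _ _ _)
  haveI : IsAffineHom (c ≫ pullback.snd B.π.left (fst X T).left) := by
    rw [pullback.lift_snd]; infer_instance
  haveI : IsAffineHom c := IsAffineHom.of_comp c (pullback.snd B.π.left (fst X T).left)
  choose K₀ hK _ using fun x : X.left => exists_chart (B := B) x (O := ⊤) trivial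
  let O := fun x => pullback.snd B.π.left (fst X T).left ⁻¹ᵁ ((fst X T).left ⁻¹ᵁ (K₀ x).W)
  have hO : ⨆ x, O x = ⊤ := top_le_iff.1 fun v _ =>
    Opens.mem_iSup.2 ⟨(fst X T).left ((pullback.snd B.π.left (fst X T).left) v), hK _⟩
  refine (IsZariskiLocalAtTarget.iff_of_iSup_eq_top (P := MorphismProperty.isomorphisms Scheme) O hO).2 fun x => ?_
  show IsIso (c ∣_ O x)
  let K := K₀ x
  haveI : IsAffineHom (pullback.snd B.π.left (fst X T).left) := MorphismProperty.pullback_snd _ _ inferInstance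
  have hW : IsAffineOpen ((fst X T).left ⁻¹ᵁ K.W) := (d.chartR K).affine
  have hOa : IsAffineOpen (O x) := hW.preimage (pullback.snd B.π.left (fst X T).left)
  rw [isIso_morphismRestrict_iff_isIso_app c hOa]
  have hple : O x ≤ pullback.fst B.π.left (fst X T).left ⁻¹ᵁ (B.π.left ⁻¹ᵁ K.W) := by
    rw [← Scheme.Hom.comp_preimage, pullback.condition, Scheme.Hom.comp_preimage]
  let yP := (pullback.fst B.π.left (fst X T).left).appLE (B.π.left ⁻¹ᵁ K.W) (O x) hple K.coord
  have hbP : Function.Bijective (Polynomial.eval₂RingHom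
      ((pullback.snd B.π.left (fst X T).left).app ((fst X T).left ⁻¹ᵁ K.W)).hom yP) := by
    have H := (IsPullback.of_hasPullback B.π.left (fst X T).left).flip
    have hPW : O x = O x ⊓ pullback.fst B.π.left (fst X T).left ⁻¹ᵁ (B.π.left ⁻¹ᵁ K.W) := (inf_eq_left.2 hple).symm
    have hpush := (isIso_pushoutSection_iff H (le_refl (B.π.left ⁻¹ᵁ K.W)) (le_refl ((fst X T).left ⁻¹ᵁ K.W)) hPW).1
      (isIso_pushoutSection_of_isAffineOpen H (le_refl (B.π.left ⁻¹ᵁ K.W)) (le_refl ((fst X T).left ⁻¹ᵁ K.W)) hPW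
        K.affine K.affine_preimage hW)
    have hy' : Function.Bijective
        (Polynomial.eval₂RingHom (B.π.left.appLE K.W (B.π.left ⁻¹ᵁ K.W) le_rfl).hom K.coord) := by
      rw [← Scheme.Hom.app_eq_appLE]
      exact K.bijective
    have := GLinTotLib.bijective_eval₂_of_isPushout hpush K.coord hy'
    rw [Scheme.Hom.app_eq_appLE]
    exact this
  have hce : c ⁻¹ᵁ O x = B'.π.left ⁻¹ᵁ ((fst X T).left ⁻¹ᵁ K.W) := by
    refine (Scheme.Hom.comp_preimage c (pullback.snd B.π.left (fst X T).left) _).symm.trans ?_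
    rw [pullback.lift_snd]
  have hle' : B'.π.left ⁻¹ᵁ ((fst X T).left ⁻¹ᵁ K.W) ≤ c ⁻¹ᵁ O x := hce.ge
  have hle'' : c ⁻¹ᵁ O x ≤ B'.π.left ⁻¹ᵁ ((fst X T).left ⁻¹ᵁ K.W) := hce.le
  have key : ∀ P, c.appLE (O x) _ hle' (Polynomial.eval₂RingHom
      ((pullback.snd B.π.left (fst X T).left).app ((fst X T).left ⁻¹ᵁ K.W)).hom yP P) =
      Polynomial.eval₂RingHom (B'.π.left.app ((fst X T).left ⁻¹ᵁ K.W)).hom (d.chartR K).coord P := fun P => by
    refine (Polynomial.hom_eval₂ P _ (c.appLE (O x) _ hle').hom yP).trans ?_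
    show Polynomial.eval₂ _ (c.appLE (O x) _ hle' yP) P = Polynomial.eval₂ _ _ _
    congr 1
    · refine RingHom.ext fun s => ?_
      show c.appLE (O x) _ hle' ((pullback.snd B.π.left (fst X T).left).app _ s) = B'.π.left.app _ s
      rw [Scheme.Hom.app_eq_appLE, Scheme.Hom.app_eq_appLE, appLE_appLE']
      exact appLE_hom (pullback.lift_snd _ _ _) _ _ _
    · rw [← d.coord_eq K, appLE_appLE']
      exact appLE_hom (pullback.lift_fst _ _ _) _ _ _
  have hbij : Function.Bijective (c.appLE (O x) (B'.π.left ⁻¹ᵁ ((fst X T).left ⁻¹ᵁ K.W)) hle') := by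
    refine (Function.Bijective.of_comp_iff _ hbP).1 ?_
    rw [show (⇑(c.appLE (O x) _ hle') ∘ ⇑(Polynomial.eval₂RingHom _ yP)) = _ from funext key]
    exact (d.chartR K).bijective
  rw [ConcreteCategory.isIso_iff_bijective]
  have hr : ∀ W : B'.V.left.Opens, ∀ e : W ≤ c ⁻¹ᵁ O x, W = B'.π.left ⁻¹ᵁ ((fst X T).left ⁻¹ᵁ K.W) →
      Function.Bijective (c.appLE (O x) W e) := by
    rintro _ _ rfl
    exact hbij
  rw [Scheme.Hom.app_eq_appLE]
  exact hr _ _ (le_antisymm hle'' hle')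

/-- `V_K` over `V`. -/
def BCData.bcV (d : BCData eT B B' q) : BC k K B.V.left B'.V.left :=
  bcOf d.hT q (B'.π ≫ snd X T) (by
    have h := d.isPullback_q.paste_vert (isPullback_fst X T)
    rw [Over.w B.π] at h
    rw [Over.comp_left]
    exact h)

/-- `G × V_K` over `G × V`. -/
def BCData.bcGV (d : BCData eT B B' q) : BC k K (G ⊗ B.V).left (G ⊗ B'.V).left :=
  bcOf d.hT (G ◁ q) (snd G B'.V ≫ B'.π ≫ snd X T) (by
    have H : IsPullback (G ◁ q).left (snd G B'.V).left (snd G B.V).left q.left := by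
      rw [Over.snd_left, Over.snd_left]
      exact Groth.Agent.FinHom.isPullback_whiskerLeft G q
    have h1 := d.isPullback_q.paste_vert (isPullback_fst X T)
    rw [Over.w B.π] at h1
    have h := H.paste_vert h1
    rw [Over.w (snd G B.V)] at h
    rw [Over.comp_left, Over.comp_left]
    exact h)

/-- The section of `(X ⊗ T) ⊗ T'` over `X ⊗ T'` given by a point. -/
def sec {T' : Over (Spec (CommRingCat.of k))} (f : T' ⟶ X ⊗ T) : X ⊗ T' ⟶ (X ⊗ T) ⊗ T' :=
  lift (lift (fst X T') (snd X T' ≫ f ≫ snd X T)) (snd X T')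

theorem sec_fst {T' : Over (Spec (CommRingCat.of k))} (f : T' ⟶ X ⊗ T) :
    sec f ≫ fst (X ⊗ T) T' ≫ fst X T = fst X T' := by simp [sec]

theorem BCData.isClosedImmersion_sec (d : BCData eT B B' q) {T' : Over (Spec (CommRingCat.of k))} (f : T' ⟶ X ⊗ T) :
    IsClosedImmersion (sec f).left := by
  haveI := d.affine_fst
  haveI : IsAffineHom (fst X T ▷ T').left := MorphismProperty.of_isPullback
    ((GITAffLib.isPullback_whiskerRight (fst X T) T').map (Over.forget _)) (show IsAffineHom (fst X T).left from inferInstance)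
  have e : sec f ≫ (fst X T ▷ T') = 𝟙 _ := by
    refine CartesianMonoidalCategory.hom_ext _ _ ?_ ?_ <;> simp [sec]
  haveI : IsClosedImmersion ((sec f).left ≫ (fst X T ▷ T').left) := by
    rw [← Over.comp_left, e]
    exact inferInstanceAs (IsClosedImmersion (𝟙 _))
  exact IsClosedImmersion.of_comp (sec f).left (fst X T ▷ T').left

theorem BCData.psi_eq (d : BCData eT B B' q) {T' : Over (Spec (CommRingCat.of k))} (f : T' ⟶ X ⊗ T) :
    GIT.psi a' f = GIT.psi a (f ≫ fst X T) ≫ sec f := by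
  refine CartesianMonoidalCategory.hom_ext _ _ (CartesianMonoidalCategory.hom_ext _ _ ?_ ?_) ?_
  · simp [GIT.psi, sec, d.ha']
  · simp [GIT.psi, sec, d.ha'']
  · simp [GIT.psi, sec]

/-- Closed orbits pull back. -/
theorem BCData.closedOrbitsOn_preimage (d : BCData eT B B' q) {U : X.left.Opens} (hcl : GLinSh.ClosedOrbitsOn a U) :
    GLinSh.ClosedOrbitsOn a' ((fst X T).left ⁻¹ᵁ U) := by
  intro Ω _ _ T' eT' f hf
  haveI := d.isClosedImmersion_sec f
  have h := hcl Ω T' eT' (f ≫ fst X T) (by rintro _ ⟨t, rfl⟩; exact hf ⟨t, rfl⟩)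
  obtain ⟨C, hC, hCA⟩ := isClosed_induced_iff.1 h
  have hfst : ∀ w, (fst X T).left ((fst (X ⊗ T) T').left ((sec f).left w)) = (fst X T').left w := fun w => by
    conv_rhs => rw [← sec_fst f]
    rfl
  refine isClosed_induced_iff.2 ⟨(sec f).left '' C, (sec f).left.isClosedEmbedding.isClosedMap C hC, ?_⟩
  have hr : Set.range (GIT.psi a' f).left.base = (sec f).left '' Set.range (GIT.psi a (f ≫ fst X T)).left.base := by
    rw [d.psi_eq, Over.comp_left, Scheme.Hom.comp_base, TopCat.coe_comp, Set.range_comp]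
  ext p
  simp only [Set.mem_preimage, hr, Set.mem_image]
  constructor
  · rintro ⟨w, hw, hwp⟩
    have hwU : w ∈ (fst X T').left ⁻¹ᵁ U := by
      show (fst X T').left w ∈ U
      rw [← hfst w, hwp]
      exact p.2
    exact ⟨w, (Set.ext_iff.1 hCA ⟨w, hwU⟩).1 hw, hwp⟩
  · rintro ⟨w, hw, hwp⟩
    have hwU : w ∈ (fst X T').left ⁻¹ᵁ U := by
      show (fst X T').left w ∈ U
      rw [← hfst w, hwp]
      exact p.2
    exact ⟨w, (Set.ext_iff.1 hCA ⟨w, hwU⟩).2 hw, hwp⟩

end GLinBCLib
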